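import Mathlib.RingTheory.MvPolynomial.Basic
import Mathlib.RingTheory.Polynomial.UniqueFactorization
import Mathlib.RingTheory.Localization.AsSubring
import Mathlib.RingTheory.DiscreteValuationRing.TFAE
import Mathlib.RingTheory.Polynomial.Basic
import Mathlib.Algebra.MvPolynomial.Equiv
import Mathlib.Algebra.MvPolynomial.Division
import Mathlib.RingTheory.Valuation.ValuationRing
import Mathlib.RingTheory.Localization.Submodule
import Mathlib.RingTheory.Localization.AtPrime.Basic

/-!
# The degree valuation on a rational function field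
-/

namespace Groth.Agent.Lib.UnitsFG.Degree

open MvPolynomial

universe u

/-- A prime element of a Noetherian domain gives a DVR inside the fraction field. -/
theorem exists_dvr {R F : Type u} [CommRing R] [IsDomain R] [IsNoetherianRing R] [Field F] (σ : R →+* F)
    (hσ : Function.Injective σ) (hsurj : ∀ z : F, ∃ a b : R, b ≠ 0 ∧ z = σ a / σ b) (π : R) (hπ : Prime π) :
    ∃ (O : Subring F) (_ : IsDiscreteValuationRing O) (_ : IsFractionRing O F),
      ∀ z : F, z ∈ O ↔ ∃ a s : R, ¬ π ∣ s ∧ z = σ a / σ s := by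
  let _ : Algebra R F := σ.toAlgebra
  have : FaithfulSMul R F := (faithfulSMul_iff_algebraMap_injective R F).mpr hσ
  have : IsFractionRing R F := by
    refine IsFractionRing.of_field R F fun z => ?_
    obtain ⟨a, b, -, h⟩ := hsurj z
    exact ⟨a, b, h⟩
  let P : Ideal R := Ideal.span {π}
  have : P.IsPrime := (Ideal.span_singleton_prime hπ.ne_zero).mpr hπ
  let O := Localization.subalgebra.ofField F P.primeCompl P.primeCompl_le_nonZeroDivisors
  have : IsLocalization.AtPrime O P := inferInstanceAs (IsLocalization P.primeCompl O)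
  have : IsNoetherianRing O := IsLocalization.isNoetherianRing P.primeCompl O inferInstance
  have : IsLocalRing O := IsLocalization.AtPrime.isLocalRing O P
  have hmax : IsLocalRing.maximalIdeal O = Ideal.span {algebraMap R O π} := by
    rw [← IsLocalization.AtPrime.map_eq_maximalIdeal P O, Ideal.map_span, Set.image_singleton]
  have hnf : ¬ IsField O := fun hf => by
    have h := IsLocalRing.isField_iff_maximalIdeal_eq.mp hf
    rw [hmax, Ideal.span_singleton_eq_bot] at h
    exact hπ.ne_zero (IsLocalization.injective O P.primeCompl_le_nonZeroDivisors (h.trans (map_zero _).symm))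
  have hdvr : IsDiscreteValuationRing O :=
    ((IsDiscreteValuationRing.TFAE O hnf).out 0 4).mpr (show (IsLocalRing.maximalIdeal O).IsPrincipal from ⟨⟨_, hmax.trans Ideal.submodule_span_eq.symm⟩⟩)
  refine ⟨O.toSubring, hdvr, inferInstanceAs (IsFractionRing O F), fun z => ?_⟩
  constructor
  · rintro ⟨a, s, hs, h⟩
    exact ⟨a, s, fun h' => hs (Ideal.mem_span_singleton.mpr h'), by rw [h, div_eq_mul_inv]; rfl⟩
  · rintro ⟨a, s, hs, h⟩
    exact ⟨a, s, fun h' => hs (Ideal.mem_span_singleton.mp h'), by rw [h, div_eq_mul_inv]; rfl⟩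

variable (k : Type u) [Field k] (n : ℕ)

local notation "P" => MvPolynomial (Fin (n + 1)) k
local notation "F" => FractionRing (MvPolynomial (Fin (n + 1)) k)

/-- Homogenization in degree `d` followed by dehomogenization with respect to the first variable. -/
noncomputable def flipExp (d : ℕ) (m : Fin (n + 1) →₀ ℕ) : Fin (n + 1) →₀ ℕ :=
  m.update 0 (d - ∑ i, m i)

noncomputable def flip (d : ℕ) (p : P) : P :=
  ∑ m ∈ p.support, monomial (flipExp n d m) (coeff m p)

theorem flipExp_flipExp {d : ℕ} {m : Fin (n + 1) →₀ ℕ} (h : ∑ i, m i ≤ d) :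
    flipExp n d (flipExp n d m) = m ∧ ∑ i, flipExp n d m i ≤ d := by
  simp only [flipExp, Fin.sum_univ_succ, Finsupp.coe_update, Function.update_self, ne_eq, Fin.succ_ne_zero,
    not_false_eq_true, Function.update_of_ne] at h ⊢
  refine ⟨?_, by omega⟩
  ext i
  refine Fin.cases ?_ (fun j => ?_) i
  · simp only [Finsupp.coe_update, Function.update_self]
    omega
  · simp [Fin.succ_ne_zero]

/-- The substitution `X 0 ↦ 1 / x 0`, `X i ↦ x i / x 0`. -/
noncomputable def chart : P →ₐ[k] F :=
  aeval fun i => (if i = 0 then 1 else algebraMap P F (X i)) * (algebraMap P F (X 0))⁻¹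

theorem x0_ne : algebraMap P F (X 0) ≠ 0 := by
  rw [ne_eq, IsFractionRing.to_map_eq_zero_iff]
  exact X_ne_zero 0

theorem chart_monomial (m : Fin (n + 1) →₀ ℕ) (c : k) :
    chart k n (monomial m c) * algebraMap P F (X 0) ^ (∑ i, m i) =
      algebraMap P F (monomial (m.update 0 0) c) := by
  rw [chart, aeval_monomial, Finsupp.prod_fintype _ _ (fun i => pow_zero _), Fin.prod_univ_succ, monomial_eq,
    Finsupp.prod_fintype _ _ (fun i => pow_zero _), map_mul, map_prod, Fin.prod_univ_succ, Fin.sum_univ_succ]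
  simp only [Finsupp.coe_update, Function.update_self, ne_eq, Fin.succ_ne_zero, not_false_eq_true,
    Function.update_of_ne, ↓reduceIte, one_mul, pow_zero, map_one, mul_pow, Finset.prod_mul_distrib,
    Finset.prod_pow_eq_pow_sum, map_pow, inv_pow, pow_add]
  have h := x0_ne k n
  rw [show algebraMap P F (C c) = algebraMap k F c from (IsScalarTower.algebraMap_apply k P F c).symm]
  rw [Finset.prod_inv_distrib, Finset.prod_pow_eq_pow_sum]
  field_simp

theorem chart_flip {d : ℕ} (p : P) (hp : ∀ m ∈ p.support, ∑ i, m i ≤ d) :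
    chart k n p * algebraMap P F (X 0) ^ d = algebraMap P F (flip k n d p) := by
  conv_lhs => rw [p.as_sum, map_sum, Finset.sum_mul]
  rw [flip, map_sum]
  refine Finset.sum_congr rfl fun m hm => ?_
  have h : ∑ i, m i + (d - ∑ i, m i) = d := Nat.add_sub_cancel' (hp m hm)
  conv_lhs => rw [← h, pow_add, ← mul_assoc, chart_monomial, ← map_pow, ← map_mul, X_pow_eq_monomial,
    monomial_mul, mul_one]
  refine congrArg (algebraMap P F) (congrArg (fun e => monomial e (coeff m p)) ?_)
  ext i
  refine Fin.cases ?_ (fun j => ?_) i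
  · simp [flipExp]
  · simp [flipExp, Fin.succ_ne_zero]

theorem coeff_flip {d : ℕ} (p : P) (hp : ∀ m ∈ p.support, ∑ i, m i ≤ d) {m : Fin (n + 1) →₀ ℕ}
    (hm : m ∈ p.support) : coeff (flipExp n d m) (flip k n d p) = coeff m p := by
  classical
  rw [flip, coeff_sum, Finset.sum_eq_single m (fun b hb hbm => ?_) (fun h => (h hm).elim), coeff_monomial,
    if_pos rfl]
  rw [coeff_monomial, if_neg fun h => hbm ?_]
  rw [← (flipExp_flipExp n (hp b hb)).1, h, (flipExp_flipExp n (hp m hm)).1]

theorem support_flip_subset {d : ℕ} (p : P) {m : Fin (n + 1) →₀ ℕ} (hm : m ∈ (flip k n d p).support) :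
    ∃ b ∈ p.support, flipExp n d b = m := by
  classical
  rw [mem_support_iff, flip, coeff_sum] at hm
  obtain ⟨b, hb, hne⟩ := Finset.exists_ne_zero_of_sum_ne_zero hm
  rw [coeff_monomial] at hne
  exact ⟨b, hb, by by_contra h; simp [h] at hne⟩

theorem flip_flip {d : ℕ} (p : P) (hp : ∀ m ∈ p.support, ∑ i, m i ≤ d) :
    (∀ m ∈ (flip k n d p).support, ∑ i, m i ≤ d) ∧ flip k n d (flip k n d p) = p := by
  classical
  have h1 : ∀ m ∈ (flip k n d p).support, ∑ i, m i ≤ d := fun m hm => by
    obtain ⟨b, hb, rfl⟩ := support_flip_subset k n p hm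
    exact (flipExp_flipExp n (hp b hb)).2
  refine ⟨h1, ?_⟩
  conv_rhs => rw [p.as_sum]
  rw [flip]
  refine (Finset.sum_nbij (flipExp n d) (fun b hb => ?_) (fun a ha b hb h => ?_) (fun m hm => ?_) (fun b hb => ?_)).symm
  · rw [mem_support_iff, coeff_flip k n p hp hb]; exact mem_support_iff.mp hb
  · rw [← (flipExp_flipExp n (hp a ha)).1, h, (flipExp_flipExp n (hp b hb)).1]
  · obtain ⟨b, hb, rfl⟩ := support_flip_subset k n p hm
    exact ⟨b, hb, rfl⟩
  · rw [coeff_flip k n p hp hb, (flipExp_flipExp n (hp b hb)).1]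

theorem le_totalDegree (p : P) : ∀ m ∈ p.support, ∑ i, m i ≤ p.totalDegree := fun m hm => by
  have := MvPolynomial.le_totalDegree hm
  rwa [Finsupp.sum_fintype _ _ (fun i => rfl)] at this

theorem chart_injective : Function.Injective (chart k n) := by
  rw [injective_iff_map_eq_zero]
  intro p hp
  have h := chart_flip k n p (le_totalDegree k n p)
  rw [hp, zero_mul] at h
  have h0 : flip k n p.totalDegree p = 0 := IsFractionRing.to_map_eq_zero_iff.mp h.symm
  have h2 := (flip_flip k n p (le_totalDegree k n p)).2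
  rw [h0] at h2
  simpa [flip] using h2.symm

theorem algebraMap_eq_chart {d : ℕ} (a : P) (ha : ∀ m ∈ a.support, ∑ i, m i ≤ d) :
    algebraMap P F a * chart k n (X 0) ^ d = chart k n (flip k n d a) := by
  obtain ⟨h1, h2⟩ := flip_flip k n a ha
  have h := chart_flip k n _ h1
  rw [h2] at h
  rw [show chart k n (X 0) = (algebraMap P F (X 0))⁻¹ by simp [chart], ← h, inv_pow, mul_assoc,
    mul_inv_cancel₀ (pow_ne_zero _ (x0_ne k n)), mul_one]

/-- The degree valuation ring of the rational function field, meeting polynomials in constants. -/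
theorem exists_dvr_infinity :
    ∃ (O : Subring F) (_ : IsDiscreteValuationRing O) (_ : IsFractionRing O F),
      (∀ c : k, algebraMap k F c ∈ O) ∧ ∀ a : P, algebraMap P F a ∈ O → ∃ c : k, a = C c := by
  have hX : Prime (X 0 : P) := MvPolynomial.X_prime
  obtain ⟨O, h1, h2, hO⟩ := exists_dvr (chart k n).toRingHom (chart_injective k n) (fun z => by
    obtain ⟨a, b, hb, rfl⟩ := IsFractionRing.div_surjective (A := P) z
    refine ⟨flip k n a.totalDegree a * X 0 ^ b.totalDegree, flip k n b.totalDegree b * X 0 ^ a.totalDegree, ?_, ?_⟩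
    · refine mul_ne_zero (fun h0 => ?_) (pow_ne_zero _ (X_ne_zero 0))
      have h2 := (flip_flip k n b (le_totalDegree k n b)).2
      rw [h0] at h2
      exact nonZeroDivisors.ne_zero hb (by simpa [flip] using h2.symm)
    · simp only [AlgHom.toRingHom_eq_coe, RingHom.coe_coe, map_mul, map_pow,
        ← algebraMap_eq_chart k n a (le_totalDegree k n a), ← algebraMap_eq_chart k n b (le_totalDegree k n b)]
      have h3 : chart k n (X 0) ≠ 0 := fun h => X_ne_zero 0 (chart_injective k n (h.trans (map_zero _).symm))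
      field_simp) (X 0) hX
  refine ⟨O, h1, h2, fun c => (hO _).mpr ⟨C c, 1, hX.not_dvd_one, by simp⟩, fun a ha => ?_⟩
  obtain ⟨g, s, hs, hgs⟩ := (hO _).mp ha
  rcases Nat.eq_zero_or_pos a.totalDegree with hd | hd
  · exact ⟨_, (totalDegree_eq_zero_iff_eq_C).mp hd⟩
  exfalso
  have hs0 : chart k n s ≠ 0 := fun h => hs (by rw [chart_injective k n (h.trans (map_zero _).symm)]; exact dvd_zero _)
  have key : flip k n a.totalDegree a * s = X 0 ^ a.totalDegree * g := by
    apply chart_injective k n
    rw [map_mul, map_mul, ← algebraMap_eq_chart k n a (le_totalDegree k n a), map_pow, hgs]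
    simp only [AlgHom.toRingHom_eq_coe, RingHom.coe_coe]
    field_simp
  have hnd : ¬ (X 0 : P) ∣ flip k n a.totalDegree a := by
    have ha0 : a ≠ 0 := fun h => by simp [h] at hd
    obtain ⟨m, hm, hmd⟩ := Finset.exists_mem_eq_sup a.support (support_nonempty.mpr ha0)
      fun s => s.sum fun _ e => e
    rintro ⟨q, hq⟩
    have hc := coeff_flip k n a (le_totalDegree k n a) hm
    rw [hq, coeff_X_mul', if_neg] at hc
    · exact mem_support_iff.mp hm hc.symm
    · rw [Finsupp.mem_support_iff, not_not, flipExp, Finsupp.coe_update, Function.update_self,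
        show ∑ i, m i = a.totalDegree by
          rw [← Finsupp.sum_fintype m (fun _ e => e) (fun i => rfl)]; exact hmd.symm, Nat.sub_self]
  exact (hX.dvd_mul.mp ⟨X 0 ^ (a.totalDegree - 1) * g, by
    rw [key, ← mul_assoc, ← pow_succ', Nat.sub_add_cancel hd]⟩).elim hnd hs

end Groth.Agent.Lib.UnitsFG.Degree
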