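import Groth.Agent.Lib.UnitsFG.Valuations
import Groth.Agent.Lib.UnitsFG.Degree
import Mathlib.RingTheory.NoetherNormalization
import Mathlib.RingTheory.Algebraic.Integral
import Mathlib.RingTheory.Localization.Finiteness
import Mathlib.FieldTheory.Minpoly.IsIntegrallyClosed
import Mathlib.RingTheory.Polynomial.UniqueFactorization

/-!
# Units of an affine domain modulo constants
-/

namespace Groth.Agent.Lib.UnitsFG.Core

open scoped nonZeroDivisors

universe u

/-- Units of a finitely generated domain over a field: modulo the algebraic ones they embed in a free abelian group of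
finite rank. -/
theorem exists_hom (k A : Type u) [Field k] [CommRing A] [IsDomain A] [Algebra k A] [Algebra.FiniteType k A] :
    ∃ (ι : Type u) (_ : Finite ι) (φ : Aˣ →* Multiplicative (ι → ℤ)), ∀ u : Aˣ, φ u = 1 → IsIntegral k (u : A) := by
  obtain ⟨s, g, hginj, hg⟩ := exists_finite_inj_algHom_of_fg k A
  let P := MvPolynomial (Fin s) k
  let _ : Algebra P A := g.toRingHom.toAlgebra
  have : IsScalarTower k P A := .of_algebraMap_eq fun c => (g.commutes c).symm
  have : Module.Finite P A := hg
  cases s with
  | zero =>
    refine ⟨PEmpty, inferInstance, 1, fun u _ => ?_⟩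
    have : Algebra.IsIntegral k P := ⟨fun p => by
      rw [MvPolynomial.eq_C_of_isEmpty p]; exact isIntegral_algebraMap⟩
    exact isIntegral_trans (u : A) (Algebra.IsIntegral.isIntegral (R := P) (u : A))
  | succ n =>
    let F := FractionRing P
    let L := FractionRing A
    have : FaithfulSMul P A := (faithfulSMul_iff_algebraMap_injective P A).mpr hginj
    have : FaithfulSMul P L := (faithfulSMul_iff_algebraMap_injective P L).mpr (by
      rw [IsScalarTower.algebraMap_eq P A L]
      exact (IsFractionRing.injective A L).comp hginj)
    let _ := FractionRing.liftAlgebra P L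
    have : IsScalarTower P F L := FractionRing.isScalarTower_liftAlgebra P L
    have : IsLocalization (Algebra.algebraMapSubmonoid A P⁰) L := inferInstance
    have : FiniteDimensional F L := Module.Finite.of_isLocalization P A P⁰
    obtain ⟨O, hO, hOF, hk, hP⟩ := Degree.exists_dvr_infinity k n
    obtain ⟨ι, hι, φ, hφ⟩ := Valuations.exists_hom O F L
    refine ⟨ι, hι, φ.comp (Units.map (algebraMap A L).toMonoidHom), fun u hu => ?_⟩
    let w : L := algebraMap A L u
    have hwO : IsIntegral O w := hφ _ hu
    have hwP : IsIntegral P w := (Algebra.IsIntegral.isIntegral (R := P) (u : A)).map (IsScalarTower.toAlgHom P A L)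
    have h1 := minpoly.isIntegrallyClosed_eq_field_fractions' F hwP
    have h2 := minpoly.isIntegrallyClosed_eq_field_fractions' F hwO
    have hmem : minpoly P w ∈ Polynomial.lifts (MvPolynomial.C : k →+* P) := by
      rw [Polynomial.lifts_iff_coeff_lifts]
      intro j
      obtain ⟨c, hc⟩ := hP ((minpoly P w).coeff j) (by
        rw [← Polynomial.coeff_map, ← h1, h2, Polynomial.coeff_map]
        exact ((minpoly O w).coeff j).2)
      exact ⟨c, hc.symm⟩
    obtain ⟨q, hq, -, hmon⟩ := Polynomial.lifts_and_degree_eq_and_monic hmem (minpoly.monic hwP)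
    have hk' : IsIntegral k w := by
      refine ⟨q, hmon, ?_⟩
      have h := minpoly.aeval P w
      rw [← hq, show (MvPolynomial.C : k →+* P) = algebraMap k P from rfl, Polynomial.aeval_map_algebraMap] at h
      exact h
    exact (isIntegral_algHom_iff (IsScalarTower.toAlgHom k A L) (IsFractionRing.injective A L)).mp hk'

end Groth.Agent.Lib.UnitsFG.Core
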