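import Groth.Agent.Lib.UnitsFG.Scheme
import Mathlib.GroupTheory.QuotientGroup.Basic
import Mathlib.GroupTheory.Finiteness
import Mathlib.RingTheory.Finiteness.Defs

/-!
# Units modulo constants are finitely generated
-/

open CategoryTheory AlgebraicGeometry TopologicalSpace Opposite

namespace Groth.Agent.Lib.UnitsFG.FG

universe u

theorem fg_quotient_of_ker_le {G : Type*} [CommGroup G] {H : Type*} [CommGroup H] (φ : G →* H)
    [Monoid.FG φ.range] (N : Subgroup G) (h : φ.ker ≤ N) : Group.FG (G ⧸ N) := by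
  have : Group.FG φ.range := Group.fg_iff_monoid_fg.mpr inferInstance
  have : Group.FG (G ⧸ φ.ker) := Group.fg_of_surjective (f := (QuotientGroup.quotientKerEquivRange φ).symm.toMonoidHom)
    (QuotientGroup.quotientKerEquivRange φ).symm.surjective
  refine Group.fg_of_surjective (f := QuotientGroup.map φ.ker N (MonoidHom.id G) h) fun q => ?_
  obtain ⟨g, rfl⟩ := QuotientGroup.mk_surjective q
  exact ⟨QuotientGroup.mk g, rfl⟩

theorem fg_subgroup_of_lattice {ι : Type*} [Finite ι] (H : Subgroup (Multiplicative (ι → ℤ))) : Monoid.FG H := by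
  rw [← Group.fg_iff_monoid_fg, Group.fg_iff_subgroup_fg, Subgroup.fg_iff_add_fg,
    ← AddSubgroup.toIntSubmodule_toAddSubgroup (Subgroup.toAddSubgroup H), ← Submodule.fg_iff_addSubgroup_fg]
  exact (isNoetherian_def.mp (isNoetherian_of_isNoetherianRing_of_finite ℤ (Additive (Multiplicative (ι → ℤ))))) _

theorem isDomain_of_isIrreducible {X : AlgebraicGeometry.Scheme.{u}} [IsReduced X] {U : X.Opens} (hU : IsIrreducible (U : Set X)) :
    IsDomain Γ(X, U) := by
  have : IrreducibleSpace U.toScheme := by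
    have := hU.isPreirreducible
    exact @IrreducibleSpace.mk _ _ (Subtype.preirreducibleSpace this) hU.nonempty.to_subtype
  have : IsReduced U.toScheme := isReduced_of_isOpenImmersion U.ι
  have : IsIntegral U.toScheme := isIntegral_of_irreducibleSpace_of_isReduced _
  exact MulEquiv.isDomain _ U.topIso.commRingCatIsoToRingEquiv.symm.toMulEquiv

variable {k : Type u} [Field k] {X : AlgebraicGeometry.Scheme.{u}} (f : X ⟶ Spec (CommRingCat.of k))

theorem fg_units_mod_constants [LocallyOfFiniteType f] [IsReduced X] [ConnectedSpace X]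
    (hirr : (irreducibleComponents (X : Type u)).Finite)
    (hint : ∀ x : Γ(X, ⊤), (Scheme.toΓ f).IsIntegralElem x → x ∈ Set.range (Scheme.toΓ f)) :
    Group.FG ((Γ(X, ⊤))ˣ ⧸ (Units.map (Scheme.toΓ f : k →* Γ(X, ⊤))).range) := by
  classical
  have : Finite (irreducibleComponents (X : Type u)) := hirr.to_subtype
  have hU : ∀ Z : irreducibleComponents (X : Type u), ∃ U : X.Opens, IsAffineOpen U ∧ (U : Set X).Nonempty ∧
      (U : Set X) ⊆ Z.1 := by
    rintro ⟨Z, hZ⟩
    let others := irreducibleComponents (X : Type u) \ {Z}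
    have hfin : others.Finite := hirr.subset Set.sdiff_subset
    have hcl : IsClosed (⋃₀ others) := hfin.isClosed_biUnion (fun W hW => isClosed_of_mem_irreducibleComponents W hW.1)
      |> fun h => by rwa [Set.sUnion_eq_biUnion]
    have hne : ¬ Z ⊆ ⋃₀ others := fun hsub => by
      obtain ⟨W, hW, hZW⟩ := (isIrreducible_iff_sUnion_isClosed.mp hZ.1) hfin.toFinset
        (fun W hW => isClosed_of_mem_irreducibleComponents W ((Set.Finite.mem_toFinset _).mp hW).1)
        (by rwa [Set.Finite.coe_toFinset])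
      have hW' := (Set.Finite.mem_toFinset _).mp hW
      exact hW'.2 (Set.Subset.antisymm (hZ.2 hW'.1.1 hZW) hZW)
    obtain ⟨z, hzZ, hz⟩ := Set.not_subset.mp hne
    obtain ⟨U, hUa, hzU, hUsub⟩ := exists_isAffineOpen_mem_and_subset (U := (⟨_, hcl.isOpen_compl⟩ : X.Opens)) hz
    refine ⟨U, hUa, ⟨z, hzU⟩, fun w hw => ?_⟩
    by_contra hwZ
    refine hUsub hw ⟨irreducibleComponent w, ⟨irreducibleComponent_mem_irreducibleComponents w, fun h => ?_⟩,
      mem_irreducibleComponent⟩
    exact hwZ ((Set.mem_singleton_iff.mp h) ▸ mem_irreducibleComponent)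
  choose U hUa hUne hUsub using hU
  have hdom : ∀ Z, IsDomain Γ(X, U Z) := fun Z => isDomain_of_isIrreducible
    ⟨hUne Z, (Z.2.1.isPreirreducible).open_subset (U Z).isOpen (hUsub Z)⟩
  have hφ : ∀ Z, ∃ (ι : Type u) (_ : Finite ι) (φ : (Γ(X, U Z))ˣ →* Multiplicative (ι → ℤ)),
      ∀ v, φ v = 1 → (Scheme.toSections f (U Z)).IsIntegralElem (v : Γ(X, U Z)) := fun Z => by
    have := hdom Z
    let _ : Algebra k Γ(X, U Z) := (Scheme.toSections f (U Z)).toAlgebra
    have hft : Algebra.FiniteType k Γ(X, U Z) := Scheme.finiteType_toSections f (hUa Z)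
    exact Core.exists_hom k Γ(X, U Z)
  choose ι hι φ hφ using hφ
  let res : ∀ Z, Γ(X, ⊤) →+* Γ(X, U Z) := fun Z => (X.presheaf.map (homOfLE (le_top : U Z ≤ ⊤)).op).hom
  let Φ : (Γ(X, ⊤))ˣ →* Multiplicative ((Σ Z, ι Z) → ℤ) :=
    { toFun := fun u => Multiplicative.ofAdd fun p => Multiplicative.toAdd (φ p.1 (Units.map (res p.1).toMonoidHom u)) p.2
      map_one' := by simp only [map_one, toAdd_one, Pi.zero_apply]; rfl
      map_mul' := fun u v => by
        rw [← ofAdd_add]
        congr 1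
        funext p
        simp [map_mul] }
  have := fg_subgroup_of_lattice Φ.range
  refine fg_quotient_of_ker_le Φ _ fun u hu => ?_
  have hker : ∀ Z, φ Z (Units.map (res Z).toMonoidHom u) = 1 := fun Z => by
    apply Multiplicative.toAdd.injective
    funext i
    exact congrFun (congrArg Multiplicative.toAdd (MonoidHom.mem_ker.mp hu)) ⟨Z, i⟩
  choose π hπm hπ using fun Z => hφ Z _ (hker Z)
  have := Fintype.ofFinite (irreducibleComponents (X : Type u))
  let Q : Polynomial k := ∏ Z, π Z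
  have hQ : Q.eval₂ (Scheme.toΓ f) (u : Γ(X, ⊤)) = 0 := by
    refine Scheme.eq_zero_of_forall _ fun x hx => ?_
    let Z : irreducibleComponents (X : Type u) := ⟨_, irreducibleComponent_mem_irreducibleComponents x⟩
    obtain ⟨z, -, hzD, hzU⟩ := Z.2.1.2 (X.basicOpen (Q.eval₂ (Scheme.toΓ f) (u : Γ(X, ⊤))) : Set X) (U Z : Set X)
      (X.basicOpen _).isOpen (U Z).isOpen ⟨x, mem_irreducibleComponent, hx⟩
      ⟨(hUne Z).some, hUsub Z (hUne Z).some_mem, (hUne Z).some_mem⟩
    have h0 : (X.presheaf.map (homOfLE (le_top : U Z ≤ ⊤)).op).hom (Q.eval₂ (Scheme.toΓ f) (u : Γ(X, ⊤))) = 0 := by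
      erw [Scheme.map_eval₂ f (U Z) Q u]
      exact Polynomial.eval₂_eq_zero_of_dvd_of_eval₂_eq_zero _ _ (Finset.dvd_prod_of_mem π (Finset.mem_univ Z)) (hπ Z)
    exact ((Scheme.mem_basicOpen_iff (hUa Z) _ hzU).mp hzD) (by rw [h0]; exact Ideal.zero_mem _)
  obtain ⟨c, hc⟩ := hint u ⟨Q, Polynomial.monic_prod_of_monic _ _ fun Z _ => hπm Z, hQ⟩
  have hc0 : c ≠ 0 := fun h => by
    obtain ⟨x⟩ := (inferInstance : Nonempty X)
    have : Nontrivial Γ(X, ⊤) := ⟨⟨0, 1, fun h01 => by
      have hbot := (X.basicOpen_of_isUnit (f := (1 : Γ(X, ⊤))) isUnit_one)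
      rw [← h01, Scheme.basicOpen_zero] at hbot
      exact (hbot.symm ▸ (trivial : x ∈ (⊤ : X.Opens)) : x ∈ (⊥ : X.Opens))⟩⟩
    exact u.ne_zero (by rw [← hc, h, map_zero])
  exact ⟨Units.mk0 c hc0, Units.ext hc⟩

end Groth.Agent.Lib.UnitsFG.FG
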