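import Groth.Agent.Lib.UnitsFG.Core
import Mathlib.RingTheory.Algebraic.Basic
import Mathlib.RingTheory.Coprime.Lemmas

/-!
# Too many units in `k[y]` force `y` to be algebraic
-/

namespace Groth.Agent.Lib.UnitsFG.ManyUnits

open Polynomial

universe u

/-- Pairwise coprime monic polynomials of positive degree, over the integers. -/
noncomputable def eucl : ℕ → ℤ[X]
  | 0 => X
  | n + 1 => 1 + ∏ i : Fin (n + 1), eucl i.1

theorem eucl_spec (R : Type u) [CommRing R] [Nontrivial R] (n : ℕ) :
    ((eucl n).map (Int.castRingHom R)).Monic ∧ 0 < ((eucl n).map (Int.castRingHom R)).natDegree := by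
  induction n using Nat.strong_induction_on with
  | _ n ih =>
    cases n with
    | zero => rw [eucl, Polynomial.map_X]; exact ⟨monic_X, by simp⟩
    | succ n =>
      rw [eucl, Polynomial.map_add, Polynomial.map_one, Polynomial.map_prod]
      set q := ∏ i : Fin (n + 1), (eucl i.1).map (Int.castRingHom R)
      have hm : q.Monic := monic_prod_of_monic _ _ fun i _ => (ih i.1 i.2).1
      have hd : 0 < q.natDegree := by
        rw [natDegree_prod_of_monic _ _ fun i _ => (ih i.1 i.2).1]
        exact Finset.sum_pos (fun i _ => (ih i.1 i.2).2) ⟨0, Finset.mem_univ _⟩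
      have hlt : (1 : R[X]).natDegree < q.natDegree := by simpa using hd
      refine ⟨hm.add_of_right ?_, ?_⟩
      · rw [degree_one]; exact natDegree_pos_iff_degree_pos.mp hd
      · rwa [natDegree_add_eq_right_of_natDegree_lt hlt]

theorem isCoprime_eucl {i j : ℕ} (h : i < j) : IsCoprime (eucl i) (eucl j) := by
  obtain ⟨m, rfl⟩ := Nat.exists_eq_succ_of_ne_zero (Nat.ne_of_gt (lt_of_le_of_lt (Nat.zero_le _) h))
  obtain ⟨r, hr⟩ := Finset.dvd_prod_of_mem (fun l : Fin (m + 1) => eucl l.1) (Finset.mem_univ ⟨i, h⟩)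
  refine ⟨-r, 1, ?_⟩
  conv_lhs => rw [eucl, hr]
  ring

variable (k A : Type u) [Field k] [CommRing A] [IsDomain A] [Algebra k A]

theorem dvd_pow_of_isIntegral {y : A} (hy : Function.Injective (aeval y : k[X] →ₐ[k] A)) {P Q : k[X]} {c : A}
    (hc : IsIntegral k c) (hc0 : c ≠ 0) (h : c * aeval y Q = aeval y P) : ∃ d : ℕ, P ∣ Q ^ d := by
  have hpow : ∀ (r : k[X]) (e : ℕ), r.natDegree ≤ e → ∃ R : k[X], aeval y R = aeval c r * aeval y Q ^ e := by
    intro r e hr
    refine ⟨∑ j ∈ Finset.range (e + 1), C (r.coeff j) * P ^ j * Q ^ (e - j), ?_⟩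
    rw [aeval_eq_sum_range' (Nat.lt_succ_of_le hr), Finset.sum_mul, map_sum]
    refine Finset.sum_congr rfl fun j hj => ?_
    rw [map_mul, map_mul, aeval_C, map_pow, map_pow, ← h, Algebra.smul_def]
    have : (aeval y Q) ^ e = aeval y Q ^ j * aeval y Q ^ (e - j) := by
      rw [← pow_add, Nat.add_sub_cancel' (Nat.lt_succ_iff.mp (Finset.mem_range.mp hj))]
    rw [this, mul_pow]
    ring
  set m := minpoly k c
  obtain ⟨R, hR⟩ := hpow m.divX m.natDegree (natDegree_divX_le)
  refine ⟨m.natDegree + 1, ?_⟩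
  have hm0 : m.coeff 0 ≠ 0 := minpoly.coeff_zero_ne_zero hc hc0
  have key : P * R = C (-m.coeff 0) * Q ^ (m.natDegree + 1) := by
    apply hy
    rw [map_mul, map_mul, ← h, hR, map_pow, aeval_C, map_neg]
    have h0 : aeval c (m.divX * X + C (m.coeff 0)) = 0 := by rw [divX_mul_X_add]; exact minpoly.aeval k c
    rw [map_add, map_mul, aeval_X, aeval_C] at h0
    rw [eq_neg_of_add_eq_zero_right h0]
    ring
  exact ⟨C (-m.coeff 0)⁻¹ * R, by
    rw [mul_left_comm, key, ← mul_assoc, ← C_mul, inv_mul_cancel₀ (neg_ne_zero.mpr hm0), C_1, one_mul]⟩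

/-- In a finitely generated domain, an element at which all `eucl n` are units is algebraic. -/
theorem isIntegral_of_isUnit_eucl [Algebra.FiniteType k A] (y : A) (hy : ∀ n, IsUnit (aeval y (eucl n))) :
    IsIntegral k y := by
  classical
  rw [← isAlgebraic_iff_isIntegral]
  by_contra ht
  have hinj : Function.Injective (aeval y : k[X] →ₐ[k] A) := transcendental_iff_injective.mp ht
  obtain ⟨ι, hι, φ, hφ⟩ := Core.exists_hom k A
  have := Fintype.ofFinite ι
  let N := Fintype.card ι + 1
  let E : Fin N → k[X] := fun i => (eucl i.1).map (Int.castRingHom k)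
  have hyE : ∀ i, aeval y (E i) = aeval y (eucl i.1) := fun i => aeval_map_algebraMap k y _
  let v : Fin N → (ι → ℤ) := fun i => Multiplicative.toAdd (φ (hy i.1).unit)
  obtain ⟨g, hg, i₀, hi₀⟩ := Fintype.not_linearIndependent_iff.mp fun hli : LinearIndependent ℤ v => by
    have := hli.fintype_card_le_finrank
    rw [Fintype.card_fin, Module.finrank_fintype_fun_eq_card] at this
    omega
  let P : k[X] := ∏ i, E i ^ (g i).toNat
  let Q : k[X] := ∏ i, E i ^ (-g i).toNat
  let w : Aˣ := ∏ i, (hy i.1).unit ^ g i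
  have hw : φ w = 1 := by
    apply Multiplicative.toAdd.injective
    rw [toAdd_one, ← hg, map_prod, toAdd_prod]
    exact Finset.sum_congr rfl fun i _ => by rw [map_zpow, toAdd_zpow]
  have hPQ : (w : A) * aeval y Q = aeval y P := by
    have : w * ∏ i, (hy i.1).unit ^ ((-g i).toNat : ℤ) = ∏ i, (hy i.1).unit ^ ((g i).toNat : ℤ) := by
      rw [← Finset.prod_mul_distrib]
      refine Finset.prod_congr rfl fun i _ => ?_
      rw [← zpow_add]
      congr 1
      omega
    have h := congrArg (Units.coeHom A) this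
    simp only [map_mul, map_prod, zpow_natCast, map_pow, Units.coeHom_apply, IsUnit.unit_spec] at h
    simp only [P, Q, map_prod, map_pow, hyE]
    exact h
  have hco : IsCoprime P Q := IsCoprime.prod_left fun i _ => IsCoprime.prod_right fun j _ => by
    rcases lt_trichotomy i.1 j.1 with h | h | h
    · exact ((isCoprime_eucl h).map (Polynomial.mapRingHom (Int.castRingHom k))).pow
    · obtain rfl : i = j := Fin.ext h
      rcases le_total 0 (g i) with h' | h'
      · rw [show (-g i).toNat = 0 by omega, pow_zero]; exact isCoprime_one_right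
      · rw [show (g i).toNat = 0 by omega, pow_zero]; exact isCoprime_one_left
    · exact (((isCoprime_eucl h).map (Polynomial.mapRingHom (Int.castRingHom k))).symm).pow
  have hwint := hφ w hw
  have hwint' : IsIntegral k ((w⁻¹ : Aˣ) : A) := hφ w⁻¹ (by rw [map_inv, hw, inv_one])
  obtain ⟨d, hd⟩ := dvd_pow_of_isIntegral k A hinj hwint w.ne_zero hPQ
  obtain ⟨d', hd'⟩ := dvd_pow_of_isIntegral k A hinj hwint' (w⁻¹).ne_zero (P := Q) (Q := P) (by
    rw [← hPQ, ← mul_assoc, Units.inv_mul, one_mul])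
  have hPu : IsUnit P := (hco.pow_right (n := d)).isUnit_of_dvd' dvd_rfl hd
  have hQu : IsUnit Q := (hco.symm.pow_right (n := d')).isUnit_of_dvd' dvd_rfl hd'
  have hdeg : ∀ e : Fin N → ℕ, IsUnit (∏ i, E i ^ e i) → e i₀ = 0 := fun e he => by
    by_contra hne
    have h1 := (isUnit_pow_iff hne).mp (IsUnit.prod_iff.mp he i₀ (Finset.mem_univ _))
    have h2 := natDegree_eq_zero_of_isUnit h1
    exact absurd h2 (eucl_spec k i₀.1).2.ne'
  have h1 := hdeg _ hPu
  have h2 := hdeg _ hQu
  omega

end Groth.Agent.Lib.UnitsFG.ManyUnits
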