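import Groth.Prelude.Def_Coh
import Groth.Agent.Lib.UnitsFG.ManyUnits
import Mathlib.AlgebraicGeometry.Properties
import Mathlib.AlgebraicGeometry.Morphisms.FiniteType
import Mathlib.RingTheory.Spectrum.Prime.Noetherian

/-!
# Algebraic global functions
-/

open CategoryTheory AlgebraicGeometry TopologicalSpace Opposite

namespace Groth.Agent.Lib.UnitsFG.Scheme

universe u

variable {k : Type u} [Field k] {X : Scheme.{u}} (f : X ⟶ Spec (CommRingCat.of k))

/-- The structure map to sections over an open set. -/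
noncomputable def toSections (U : X.Opens) : k →+* Γ(X, U) :=
  (X.presheaf.map (homOfLE (le_top : U ≤ ⊤)).op).hom.comp (Coh.toGlobal f)

theorem finiteType_toSections [LocallyOfFiniteType f] {U : X.Opens} (hU : IsAffineOpen U) :
    (toSections f U).FiniteType := by
  have h : toSections f U =
      (f.appLE ⊤ U le_top).hom.comp (Scheme.ΓSpecIso (CommRingCat.of k)).inv.hom := rfl
  rw [h]
  exact (f.finiteType_appLE (isAffineOpen_top _) hU le_top).comp
    (RingHom.FiniteType.of_surjective _ (Scheme.ΓSpecIso (CommRingCat.of k)).symm.commRingCatIsoToRingEquiv.surjective)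

theorem map_eval₂ (U : X.Opens) (π : Polynomial k) (y : Γ(X, ⊤)) :
    (X.presheaf.map (homOfLE (le_top : U ≤ ⊤)).op).hom (π.eval₂ (Coh.toGlobal f) y) =
      π.eval₂ (toSections f U) ((X.presheaf.map (homOfLE (le_top : U ≤ ⊤)).op).hom y) :=
  Polynomial.hom_eval₂ π _ _ _

theorem mem_basicOpen_iff {U : X.Opens} (hU : IsAffineOpen U) (s : Γ(X, ⊤)) {x : X} (hx : x ∈ U) :
    x ∈ X.basicOpen s ↔
      (X.presheaf.map (homOfLE (le_top : U ≤ ⊤)).op).hom s ∉ (hU.primeIdealOf ⟨x, hx⟩).asIdeal := by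
  set t := (X.presheaf.map (homOfLE (le_top : U ≤ ⊤)).op).hom s
  have h1 : x ∈ X.basicOpen s ↔ x ∈ X.basicOpen t := by
    rw [show X.basicOpen t = U ⊓ X.basicOpen s from X.basicOpen_res s _]
    exact ⟨fun h => ⟨hx, h⟩, fun h => h.2⟩
  rw [h1]
  refine (iff_of_eq (congrArg (fun z : X => z ∈ X.basicOpen t) (hU.fromSpec_primeIdealOf ⟨x, hx⟩).symm)).trans ?_
  show hU.primeIdealOf ⟨x, hx⟩ ∈ hU.fromSpec ⁻¹ᵁ X.basicOpen t ↔ _
  rw [hU.fromSpec_preimage_basicOpen]
  rfl

theorem eq_zero_of_forall [IsReduced X] (s : Γ(X, ⊤)) (h : ∀ x, x ∉ X.basicOpen s) : s = 0 :=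
  (basicOpen_eq_bot_iff s).mp (eq_bot_iff.mpr fun x hx => (h x hx).elim)

/-- A global function on a connected reduced scheme which is algebraic on every integral affine piece is integral. -/
theorem isIntegralElem_of_forall_prime [LocallyOfFiniteType f] [IsReduced X] [ConnectedSpace X] (y : Γ(X, ⊤))
    (h : ∀ (U : X.Opens), IsAffineOpen U → ∀ p : Ideal Γ(X, U), p.IsPrime →
      ((Ideal.Quotient.mk p).comp (toSections f U)).IsIntegralElem
        (Ideal.Quotient.mk p ((X.presheaf.map (homOfLE (le_top : U ≤ ⊤)).op).hom y))) :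
    (Coh.toGlobal f).IsIntegralElem y := by
  classical
  let S : Polynomial k → Set X := fun π => (X.basicOpen (π.eval₂ (Coh.toGlobal f) y) : Set X)ᶜ
  let G : Polynomial k → Prop := fun π => π.Monic ∧ Irreducible π
  have hdisj : ∀ π π', G π → G π' → ∀ x, x ∈ S π → x ∈ S π' → π = π' := by
    intro π π' hπ hπ' x hx hx'
    by_contra hne
    obtain ⟨a, b, hab⟩ : IsCoprime π π' := hπ.2.coprime_iff_not_dvd.mpr fun hd =>
      hne (Polynomial.eq_of_monic_of_associated hπ.1 hπ'.1 (hπ.2.associated_of_dvd hπ'.2 hd))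
    obtain ⟨U, hU, hxU, -⟩ := exists_isAffineOpen_mem_and_subset (U := ⊤) (trivial : x ∈ (⊤ : X.Opens))
    have hx1 := not_not.mp (mt (mem_basicOpen_iff hU (π.eval₂ (Coh.toGlobal f) y) hxU).mpr hx)
    have hx1' := not_not.mp (mt (mem_basicOpen_iff hU (π'.eval₂ (Coh.toGlobal f) y) hxU).mpr hx')
    erw [map_eval₂] at hx1 hx1'
    have h1 := congrArg (Polynomial.eval₂RingHom (toSections f U) ((X.presheaf.map (homOfLE (le_top : U ≤ ⊤)).op).hom y)) hab
    rw [map_add, map_mul, map_mul, map_one] at h1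
    simp only [Polynomial.coe_eval₂RingHom] at h1
    refine (hU.primeIdealOf ⟨x, hxU⟩).isPrime.ne_top ((Ideal.eq_top_iff_one _).mpr ?_)
    rw [← h1]
    exact Ideal.add_mem _ (Ideal.mul_mem_left _ _ hx1) (Ideal.mul_mem_left _ _ hx1')
  have hloc : ∀ x : X, ∃ (U : X.Opens) (T : Finset (Polynomial k)), x ∈ U ∧ (∀ π ∈ T, G π) ∧
      ∀ z ∈ U, ∃ π ∈ T, z ∈ S π := by
    intro x
    obtain ⟨U, hU, hxU, -⟩ := exists_isAffineOpen_mem_and_subset (U := ⊤) (trivial : x ∈ (⊤ : X.Opens))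
    let _ : Algebra k Γ(X, U) := (toSections f U).toAlgebra
    have hft : Algebra.FiniteType k Γ(X, U) := finiteType_toSections f hU
    have : IsNoetherianRing Γ(X, U) := Algebra.FiniteType.isNoetherianRing k _
    let yU : Γ(X, U) := (X.presheaf.map (homOfLE (le_top : U ≤ ⊤)).op).hom y
    let M := (minimalPrimes.finite_of_isNoetherianRing Γ(X, U)).toFinset
    refine ⟨U, M.image fun p => minpoly k (Ideal.Quotient.mkₐ k p yU), hxU, ?_, fun z hz => ?_⟩
    · intro π hπ
      obtain ⟨p, hp, rfl⟩ := Finset.mem_image.mp hπ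
      have hp' : p.IsPrime := ((Set.Finite.mem_toFinset _).mp hp).1.1
      have hi : IsIntegral k (Ideal.Quotient.mkₐ k p yU) := h U hU p hp'
      exact ⟨minpoly.monic hi, minpoly.irreducible hi⟩
    · obtain ⟨p, hp, hle⟩ := Ideal.exists_minimalPrimes_le (J := (hU.primeIdealOf ⟨z, hz⟩).asIdeal) bot_le
      refine ⟨_, Finset.mem_image.mpr ⟨p, (Set.Finite.mem_toFinset _).mpr hp, rfl⟩, ?_⟩
      simp only [S, Set.mem_compl_iff, SetLike.mem_coe, mem_basicOpen_iff hU _ hz, not_not]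
      refine hle (Ideal.Quotient.eq_zero_iff_mem.mp ?_)
      erw [map_eval₂]
      have := minpoly.aeval k (Ideal.Quotient.mkₐ k p yU)
      rw [Polynomial.aeval_algHom_apply] at this
      exact this
  have hclopen : ∀ π, G π → IsClopen (S π) := fun π hπ => by
    refine ⟨(X.basicOpen _).isOpen.isClosed_compl, isOpen_iff_forall_mem_open.mpr fun x hx => ?_⟩
    obtain ⟨U, T, hxU, hT, hcov⟩ := hloc x
    refine ⟨(U : Set X) ∩ ⋂ π' ∈ T.erase π, (S π')ᶜ, fun z hz => ?_,
      U.isOpen.inter (isOpen_biInter_finset fun π' _ => (X.basicOpen _).isOpen.isClosed_compl.isOpen_compl),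
      hxU, Set.mem_iInter₂.mpr fun π' hπ' hx' => ?_⟩
    · obtain ⟨π', hπ', hz'⟩ := hcov z hz.1
      by_cases heq : π' = π
      · exact heq ▸ hz'
      · exact absurd hz' (Set.mem_iInter₂.mp hz.2 π' (Finset.mem_erase.mpr ⟨heq, hπ'⟩))
    · exact (Finset.mem_erase.mp hπ').1 (hdisj π' π (hT _ (Finset.mem_erase.mp hπ').2) hπ x hx' hx)
  obtain ⟨x₀⟩ := (inferInstance : Nonempty X)
  obtain ⟨U, T, hxU, hT, hcov⟩ := hloc x₀
  obtain ⟨π, hπ, hxπ⟩ := hcov x₀ hxU
  have huniv : S π = Set.univ := (hclopen π (hT π hπ)).eq_univ ⟨x₀, hxπ⟩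
  exact ⟨π, (hT π hπ).1, eq_zero_of_forall _ fun x hx => (huniv ▸ Set.mem_univ x : x ∈ S π) hx⟩

theorem isIntegralElem_of_isUnit_eucl [LocallyOfFiniteType f] [IsReduced X] [ConnectedSpace X] (y : Γ(X, ⊤))
    (hy : ∀ n, IsUnit (Polynomial.aeval y (ManyUnits.eucl n))) : (Coh.toGlobal f).IsIntegralElem y := by
  refine isIntegralElem_of_forall_prime f y fun U hU p hp => ?_
  let _ : Algebra k Γ(X, U) := (toSections f U).toAlgebra
  have hft : Algebra.FiniteType k Γ(X, U) := finiteType_toSections f hU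
  refine ManyUnits.isIntegral_of_isUnit_eucl k (Γ(X, U) ⧸ p) _ fun n => ?_
  have h := (hy n).map ((Ideal.Quotient.mk p).comp (X.presheaf.map (homOfLE (le_top : U ≤ ⊤)).op).hom)
  rw [Polynomial.aeval_def, Polynomial.hom_eval₂] at h
  rw [Polynomial.aeval_def]
  convert h using 2
  all_goals first | rfl | exact RingHom.ext_int _ _

end Groth.Agent.Lib.UnitsFG.Scheme

namespace Groth.Agent.Lib.UnitsFG.Scheme

universe v

variable {k₁ k₂ : Type v} [Field k₁] [Field k₂] {Y : AlgebraicGeometry.Scheme.{v}}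
  (a : Y ⟶ Spec (CommRingCat.of k₁)) (b : Y ⟶ Spec (CommRingCat.of k₂))

/-- The structure map with values in the commutative ring of global functions. -/
noncomputable def toΓ : k₁ →+* Γ(Y, ⊤) := Coh.toGlobal a

theorem isIntegralElem_toGlobal [IsReduced Y] [ConnectedSpace Y] [LocallyOfFiniteType a] (z : k₂) :
    (toΓ a).IsIntegralElem (toΓ b z) := by
  by_cases hz : ∃ n, Polynomial.aeval z (ManyUnits.eucl n) = 0
  · obtain ⟨n, hn⟩ := hz
    refine ⟨(ManyUnits.eucl n).map (Int.castRingHom k₁), (ManyUnits.eucl_spec k₁ n).1, ?_⟩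
    rw [Polynomial.eval₂_map, RingHom.eq_intCast' ((toΓ a).comp _), ← RingHom.eq_intCast' ((toΓ b).comp (algebraMap ℤ k₂)),
      ← Polynomial.hom_eval₂, ← Polynomial.aeval_def, hn, map_zero]
  · push Not at hz
    refine isIntegralElem_of_isUnit_eucl a _ fun n => ?_
    have h := (hz n).isUnit.map (toΓ b)
    rw [Polynomial.aeval_def, Polynomial.hom_eval₂] at h
    rw [Polynomial.aeval_def]
    convert h using 2
    all_goals first | rfl | exact RingHom.ext_int _ _

theorem isIntegralElem_of_isIntegralElem [IsReduced Y] [ConnectedSpace Y] [LocallyOfFiniteType a] {x : Γ(Y, ⊤)}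
    (hx : (toΓ b).IsIntegralElem x) : (toΓ a).IsIntegralElem x := by
  let _ : Algebra k₁ Γ(Y, ⊤) := (toΓ a).toAlgebra
  let S := integralClosure k₁ Γ(Y, ⊤)
  let φ : k₂ →+* S := (toΓ b).codRestrict S (fun z => isIntegralElem_toGlobal a b z)
  obtain ⟨p, hp, hpx⟩ := hx
  have h : IsIntegral S x := by
    refine ⟨p.map φ, hp.map φ, ?_⟩
    rw [Polynomial.eval₂_map]
    exact hpx
  exact isIntegral_trans (R := k₁) x h

end Groth.Agent.Lib.UnitsFG.Scheme
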