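import Mathlib.FieldTheory.PurelyInseparable.Exponent
import Mathlib.FieldTheory.PurelyInseparable.Basic
import Mathlib.FieldTheory.SeparableClosure
import Mathlib.RingTheory.DedekindDomain.IntegralClosure
import Mathlib.RingTheory.DedekindDomain.AdicValuation
import Mathlib.RingTheory.DedekindDomain.Factorization
import Mathlib.RingTheory.DiscreteValuationRing.TFAE

/-!
# Finitely many integer valued valuations detect integrality over a DVR
-/

namespace Groth.Agent.Lib.UnitsFG.Valuations

open IsDedekindDomain

universe u

variable {O F L : Type u} [CommRing O] [IsDomain O] [IsDiscreteValuationRing O] [Field F] [Algebra O F]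
  [IsFractionRing O F] [Field L] [Algebra F L] [Algebra O L] [IsScalarTower O F L] [FiniteDimensional F L]

variable (O F) in
/-- The separable part: a group homomorphism to a free abelian group of finite rank detecting integrality. -/
theorem exists_hom_of_isSeparable (E : Type u) [Field E] [Algebra F E] [Algebra O E] [IsScalarTower O F E]
    [FiniteDimensional F E] [Algebra.IsSeparable F E] :
    ∃ (ι : Type u) (_ : Finite ι) (φ : Eˣ →* Multiplicative (ι → ℤ)),
      ∀ x : Eˣ, φ x = 1 → IsIntegral O (x : E) := by
  classical
  let C := integralClosure O E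
  have : IsDedekindDomain C := IsIntegralClosure.isDedekindDomain O F E C
  have : IsFractionRing C E := IsIntegralClosure.isFractionRing_of_finite_extension O F E C
  have hinj : Function.Injective (algebraMap O E) := by
    rw [IsScalarTower.algebraMap_eq O F E]
    exact (algebraMap F E).injective.comp (IsFractionRing.injective O F)
  obtain ⟨π, hπ⟩ := IsDiscreteValuationRing.exists_irreducible O
  let I : Ideal C := Ideal.span {algebraMap O C π}
  have hI : I ≠ ⊥ := by
    simp only [I, ne_eq, Ideal.span_singleton_eq_bot]
    intro h
    exact hπ.ne_zero (hinj (by rw [map_zero]; exact congrArg (Subtype.val) h))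
  have hfin : Finite (HeightOneSpectrum C) := by
    have hall : ∀ v : HeightOneSpectrum C, v.asIdeal ∣ I := fun v => by
      rw [Ideal.dvd_iff_le, Ideal.span_le, Set.singleton_subset_iff]
      have : v.asIdeal.IsPrime := v.isPrime
      have hne : v.asIdeal.comap (algebraMap O C) ≠ ⊥ := fun h => v.ne_bot (Ideal.eq_bot_of_comap_eq_bot h)
      have hmax : (v.asIdeal.comap (algebraMap O C)).IsMaximal := Ideal.IsPrime.isMaximal inferInstance hne
      show algebraMap O C π ∈ v.asIdeal
      rw [← Ideal.mem_comap, IsLocalRing.eq_maximalIdeal hmax]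
      exact hπ.1
    exact Set.finite_univ_iff.mp ((Ideal.finite_factors hI).subset fun v _ => hall v)
  refine ⟨HeightOneSpectrum C, hfin,
    { toFun := fun x => Multiplicative.ofAdd fun v => Multiplicative.toAdd
        (WithZero.unitsWithZeroEquiv (Units.map (v.valuation E).toMonoidWithZeroHom.toMonoidHom x))
      map_one' := by simp; rfl
      map_mul' := fun x y => by
        rw [← ofAdd_add]
        congr 1
        funext v
        simp [map_mul] }, fun x hx => ?_⟩
  have hle : ∀ v : HeightOneSpectrum C, v.valuation E (x : E) ≤ 1 := fun v => by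
    have h := congrFun (congrArg Multiplicative.toAdd hx) v
    simp only [MonoidHom.coe_mk, OneHom.coe_mk, toAdd_ofAdd, toAdd_one, Pi.zero_apply, toAdd_eq_zero] at h
    have h' := congrArg WithZero.unitsWithZeroEquiv.symm h
    rw [MulEquiv.symm_apply_apply, map_one] at h'
    exact (congrArg Units.val h').le
  obtain ⟨c, hc⟩ := HeightOneSpectrum.mem_integers_of_valuation_le_one (R := C) E (x : E) hle
  rw [← hc]
  exact c.2

variable (O F L) in
include F in
theorem exists_hom :
    ∃ (ι : Type u) (_ : Finite ι) (φ : Lˣ →* Multiplicative (ι → ℤ)),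
      ∀ x : Lˣ, φ x = 1 → IsIntegral O (x : L) := by
  let E := separableClosure F L
  obtain ⟨ι, hι, φ, hφ⟩ := exists_hom_of_isSeparable O F E
  let n := IsPurelyInseparable.exponent E L
  have : ExpChar E (ringExpChar E) := inferInstance
  let fr : L →+* E := IsPurelyInseparable.iterateFrobenius E L (ringExpChar E) (le_refl n)
  refine ⟨ι, hι, φ.comp (Units.map fr.toMonoidHom), fun x hx => ?_⟩
  have : IsScalarTower O E L := .of_algebraMap_eq fun x => by
    rw [IsScalarTower.algebraMap_apply O F L x, IsScalarTower.algebraMap_apply O F E x]; rfl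
  have h := (hφ _ hx).map (IsScalarTower.toAlgHom O E L)
  refine IsIntegral.of_pow (pow_pos (expChar_pos E (ringExpChar E)) n) ?_
  rw [← IsPurelyInseparable.algebraMap_iterateFrobenius E (ringExpChar E) (le_refl n) (x : L)]
  exact h

end Groth.Agent.Lib.UnitsFG.Valuations
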